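import Groth.Prelude.Def_EtAlgD
import Groth.Agent.WEtLib.OverField
import Mathlib.Algebra.Algebra.Subalgebra.Directed

set_option linter.style.haveILetI false
set_option linter.unusedSectionVars false

/-!
# The largest weakly étale subalgebra over a field
-/

universe u

namespace Groth.Agent.EtAlgMax

open TensorProduct

variable (K : Type u) [Field K] {A : Type u} [CommRing A] [Algebra K A]

theorem weaklyEtale_of_algEquiv {R R' : Type u} [CommRing R] [CommRing R'] [Algebra K R] [Algebra K R']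
    [Algebra.WeaklyEtale K R] (e : R ≃ₐ[K] R') : Algebra.WeaklyEtale K R' :=
  S0736.result K R' (Hensel.isIndEtale_of_algEquiv WEtLib.isIndEtale_of_weaklyEtale e)

/-- The image of a weakly étale algebra over a field is weakly étale. -/
theorem weaklyEtale_range {R : Type u} [CommRing R] [Algebra K R] [Algebra.WeaklyEtale K R] (f : R →ₐ[K] A) :
    Algebra.WeaklyEtale K f.range := by
  haveI : Algebra.WeaklyEtale K (R ⧸ RingHom.ker f) := WEtLib.weaklyEtale_quotient (K := K) (RingHom.ker f)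
  exact weaklyEtale_of_algEquiv K (Ideal.quotientKerEquivRange f)

theorem weaklyEtale_bot : Algebra.WeaklyEtale K (⊥ : Subalgebra K A) := by
  rw [← Algebra.range_ofId]
  exact weaklyEtale_range K _

theorem weaklyEtale_sup {S T : Subalgebra K A} (hS : Algebra.WeaklyEtale K S) (hT : Algebra.WeaklyEtale K T) :
    Algebra.WeaklyEtale K ↥(S ⊔ T) := by
  haveI := hS
  haveI := hT
  haveI : Algebra.WeaklyEtale K (S ⊗[K] T) := Algebra.WeaklyEtale.trans K S (S ⊗[K] T)
  rw [← S.range_val, ← T.range_val, ← Algebra.TensorProduct.productMap_range]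
  exact weaklyEtale_range K _

theorem directedOn : DirectedOn (· ≤ ·) {S : Subalgebra K A | Algebra.WeaklyEtale K S} :=
  fun S hS T hT => ⟨S ⊔ T, weaklyEtale_sup K hS hT, le_sup_left, le_sup_right⟩

theorem mem_max_iff (x : A) :
    x ∈ EtAlgD.maxWeaklyEtale K A ↔ ∃ S : Subalgebra K A, Algebra.WeaklyEtale K S ∧ x ∈ S := by
  haveI : Nonempty {S : Subalgebra K A | Algebra.WeaklyEtale K S} := ⟨⟨⊥, weaklyEtale_bot K⟩⟩
  unfold EtAlgD.maxWeaklyEtale
  rw [sSup_eq_iSup', ← SetLike.mem_coe, Subalgebra.coe_iSup_of_directed (directedOn K).directed_val, Set.mem_iUnion]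
  exact ⟨fun ⟨S, hS⟩ => ⟨S.1, S.2, hS⟩, fun ⟨S, hS, hx⟩ => ⟨⟨S, hS⟩, hx⟩⟩

theorem le_max {S : Subalgebra K A} (hS : Algebra.WeaklyEtale K S) : S ≤ EtAlgD.maxWeaklyEtale K A :=
  le_sSup hS

/-- A finitely generated subalgebra inside the maximal one lies in a weakly étale subalgebra. -/
theorem exists_le_of_fg {T : Subalgebra K A} (hT : T.FG) (hle : T ≤ EtAlgD.maxWeaklyEtale K A) :
    ∃ S : Subalgebra K A, Algebra.WeaklyEtale K S ∧ T ≤ S := by
  classical
  obtain ⟨s, rfl⟩ := hT
  have hs : ∀ x ∈ s, x ∈ EtAlgD.maxWeaklyEtale K A := fun x hx => hle (Algebra.subset_adjoin hx)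
  have hall : ∀ t : Finset A, (∀ x ∈ t, x ∈ EtAlgD.maxWeaklyEtale K A) →
      ∃ S : Subalgebra K A, Algebra.WeaklyEtale K S ∧ (t : Set A) ⊆ S := by
    intro t
    induction t using Finset.induction_on with
    | empty => exact fun _ => ⟨⊥, weaklyEtale_bot K, by simp⟩
    | insert a t _ ih =>
      intro h
      obtain ⟨S, hS, hts⟩ := ih fun x hx => h x (Finset.mem_insert_of_mem hx)
      obtain ⟨S', hS', ha⟩ := (mem_max_iff K a).mp (h a (Finset.mem_insert_self _ _))
      refine ⟨S ⊔ S', weaklyEtale_sup K hS hS', ?_⟩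
      rw [Finset.coe_insert, Set.insert_subset_iff]
      exact ⟨(le_sup_right : S' ≤ S ⊔ S') ha, hts.trans (le_sup_left : S ≤ S ⊔ S')⟩
  obtain ⟨S, hS, hsS⟩ := hall s hs
  exact ⟨S, hS, Algebra.adjoin_le hsS⟩

theorem weaklyEtale_max : Algebra.WeaklyEtale K (EtAlgD.maxWeaklyEtale K A) := by
  refine S0736.result K _ (IndEtLib.isIndEtale_of_factor fun P _ _ _ φ => ?_)
  let M := EtAlgD.maxWeaklyEtale K A
  let T : Subalgebra K A := (M.val.comp φ).range
  have hTfg : T.FG := by
    haveI : Algebra.FiniteType K T :=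
      Algebra.FiniteType.of_surjective (M.val.comp φ).rangeRestrict (AlgHom.rangeRestrict_surjective _)
    exact T.fg_iff_finiteType.2 inferInstance
  have hle : T ≤ M := by
    rintro _ ⟨p, rfl⟩
    exact (φ p).2
  obtain ⟨S, hS, hTS⟩ := exists_le_of_fg K hTfg hle
  haveI := hS
  let T' : Subalgebra K S := T.comap S.val
  let e : T' ≃ₐ[K] T :=
    AlgEquiv.ofBijective ((S.val.comp T'.val).codRestrict T fun z => z.2)
      ⟨fun a b h => Subtype.ext (Subtype.ext (congrArg (fun z : T => (z : A)) h)),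
        fun z => ⟨⟨⟨(z : A), hTS z.2⟩, z.2⟩, rfl⟩⟩
  haveI : Algebra.FiniteType K T := T.fg_iff_finiteType.1 hTfg
  haveI : Algebra.FiniteType K T' := Algebra.FiniteType.equiv inferInstance e.symm
  haveI := WEtLib.etale_subalgebra_of_fg (K := K) (B := S) T' (T'.fg_iff_finiteType.2 inferInstance)
  exact ⟨T', inferInstance, inferInstance, inferInstance, e.symm.toAlgHom.comp (M.val.comp φ).rangeRestrict,
    (Subalgebra.inclusion hle).comp e.toAlgHom, by ext x; exact congrArg (fun z : T => (z : A)) (e.apply_symm_apply _)⟩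

end Groth.Agent.EtAlgMax
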